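import Groth.Agent.Depth.Basic
import Groth.Prelude.Def_CAlg
import Groth.Prelude.Def_EGA4b
import Mathlib.RingTheory.Ideal.AssociatedPrime.Basic
import Mathlib.RingTheory.Ideal.Height
import Mathlib.RingTheory.KrullDimension.Module
import Mathlib.RingTheory.Artinian.Ring
import Mathlib.RingTheory.Flat.Stability

/-! Flatness over an Artinian local ring from codimension-one flatness and Serre conditions. -/

set_option autoImplicit false

namespace Groth.Agent.FamCycArt

open IsLocalRing
open scoped Pointwise

universe u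

section depth

variable {R : Type u} [CommRing R] [IsNoetherianRing R]

theorem height_le_ringKrullDim_localization (P : Ideal R) [P.IsPrime] :
    (P.height : WithBot ℕ∞) ≤
      Module.supportDim (Localization.AtPrime P) (LocalizedModule P.primeCompl R) := by
  let e : LocalizedModule P.primeCompl R ≃ₗ[Localization.AtPrime P] Localization.AtPrime P :=
    (IsLocalizedModule.linearEquiv P.primeCompl (LocalizedModule.mkLinearMap P.primeCompl R)
      (Algebra.linearMap R (Localization.AtPrime P))).extendScalarsOfIsLocalization P.primeCompl _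
  rw [Module.supportDim_eq_of_equiv e, Module.supportDim_self_eq_ringKrullDim,
    IsLocalization.AtPrime.ringKrullDim_eq_height P]

theorem exists_regular_of_hasSk {k : ℕ} (hS : LocCoh.HasSk k R R) (P : Ideal R) [P.IsPrime]
    (h : (k : ℕ∞) ≤ P.height) :
    ∃ rs : List (Localization.AtPrime P),
      RingTheory.Sequence.IsWeaklyRegular (Localization.AtPrime P) rs ∧
        (∀ r ∈ rs, r ∈ maximalIdeal (Localization.AtPrime P)) ∧ rs.length = k := by
  have h1 := hS P
  have h2 : (k : WithBot ℕ∞) ≤ Module.supportDim (Localization.AtPrime P)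
      (LocalizedModule P.primeCompl R) :=
    le_trans (WithBot.coe_le_coe.mpr h) (height_le_ringKrullDim_localization P)
  rw [min_eq_left h2] at h1
  let e : LocalizedModule P.primeCompl R ≃ₗ[Localization.AtPrime P] Localization.AtPrime P :=
    (IsLocalizedModule.linearEquiv P.primeCompl (LocalizedModule.mkLinearMap P.primeCompl R)
      (Algebra.linearMap R (Localization.AtPrime P))).extendScalarsOfIsLocalization P.primeCompl _
  have h3 : (k : ℕ∞) ≤
      LocCoh.idealDepth (maximalIdeal (Localization.AtPrime P)) (Localization.AtPrime P) := by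
    rw [← Depth.idealDepth_congr e, ← Depth.depth_eq_idealDepth]
    exact WithBot.coe_le_coe.mp h1
  exact Depth.exists_isWeaklyRegular_of_le_idealDepth
    (Depth.smul_top_ne_top_of_le_maximalIdeal le_rfl) h3

/-- Under `(S_1)`, an element killed by a prime of positive height is killed by something outside it. -/
theorem exists_notMem_mul_eq_zero (hS : LocCoh.HasSk 1 R R) (P : Ideal R) [P.IsPrime]
    (h : (1 : ℕ∞) ≤ P.height) (c : R) (hc : ∀ p ∈ P, p * c = 0) : ∃ t ∉ P, t * c = 0 := by
  obtain ⟨rs, hreg, hmem, hlen⟩ := exists_regular_of_hasSk hS P h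
  obtain ⟨a, rfl⟩ := List.length_eq_one_iff.mp hlen
  rw [RingTheory.Sequence.isWeaklyRegular_cons_iff] at hreg
  have hann : ∀ z ∈ maximalIdeal (Localization.AtPrime P),
      z * algebraMap R (Localization.AtPrime P) c = 0 := by
    intro z hz
    rw [← Localization.AtPrime.map_eq_maximalIdeal] at hz
    refine Submodule.span_induction ?_ (zero_mul _) (fun x y _ _ hx hy => by rw [add_mul, hx, hy, add_zero])
      (fun r x _ hx => by rw [smul_eq_mul, mul_assoc, hx, mul_zero]) hz
    rintro _ ⟨p, hp, rfl⟩
    rw [← map_mul, hc p hp, map_zero]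
  have h0 : algebraMap R (Localization.AtPrime P) c = 0 :=
    hreg.1 (by simp only [smul_eq_mul, mul_zero]; exact hann a (hmem a (by simp)))
  obtain ⟨⟨t, ht⟩, htc⟩ := (IsLocalization.map_eq_zero_iff P.primeCompl _ c).mp h0
  exact ⟨t, ht, htc⟩

/-- Under `(S_2)`, for a nonzerodivisor `x`, no prime of height at least two is associated to `R/xR`. -/
theorem exists_notMem_mul_mem_span (hS : LocCoh.HasSk 2 R R) (P : Ideal R) [P.IsPrime]
    (h : (2 : ℕ∞) ≤ P.height) {x : R} (hx : IsSMulRegular R x) (u : R)
    (hu : ∀ p ∈ P, p * u ∈ Ideal.span {x}) : ∃ t ∉ P, t * u ∈ Ideal.span {x} := by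
  obtain ⟨rs, hreg, hmem, hlen⟩ := exists_regular_of_hasSk hS P h
  obtain ⟨a, b, rfl⟩ := List.length_eq_two.mp hlen
  rw [RingTheory.Sequence.isWeaklyRegular_cons_iff,
    RingTheory.Sequence.isWeaklyRegular_cons_iff] at hreg
  have hx' : IsSMulRegular (Localization.AtPrime P) (algebraMap R (Localization.AtPrime P) x) := hx.of_flat
  have hmax : ∀ z ∈ maximalIdeal (Localization.AtPrime P), z * algebraMap R (Localization.AtPrime P) u ∈ Ideal.span {algebraMap R (Localization.AtPrime P) x} := by
    intro z hz
    rw [← Localization.AtPrime.map_eq_maximalIdeal] at hz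
    refine Submodule.span_induction ?_ ?_ (fun x y _ _ hx hy => by rw [add_mul]; exact add_mem hx hy)
      (fun r x _ hx => by rw [smul_eq_mul, mul_assoc]; exact Ideal.mul_mem_left _ r hx) hz
    · rintro _ ⟨p, hp, rfl⟩
      rw [← map_mul, ← Set.image_singleton, ← Ideal.map_span]
      exact Ideal.mem_map_of_mem _ (hu p hp)
    · rw [zero_mul]; exact zero_mem _
  obtain ⟨u', hu'⟩ := Ideal.mem_span_singleton.mp (hmax a (hmem a (by simp)))
  obtain ⟨v', hv'⟩ := Ideal.mem_span_singleton.mp (hmax b (hmem b (by simp)))
  have h1 : b * u' = a * v' := by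
    apply hx'
    show algebraMap R (Localization.AtPrime P) x * (b * u') = algebraMap R (Localization.AtPrime P) x * (a * v')
    calc algebraMap R (Localization.AtPrime P) x * (b * u') = b * (algebraMap R (Localization.AtPrime P) x * u') := by ring
      _ = b * (a * algebraMap R (Localization.AtPrime P) u) := by rw [hu']
      _ = a * (b * algebraMap R (Localization.AtPrime P) u) := by ring
      _ = a * (algebraMap R (Localization.AtPrime P) x * v') := by rw [hv']
      _ = algebraMap R (Localization.AtPrime P) x * (a * v') := by ring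
  have h2 : Submodule.Quotient.mk (p := a • (⊤ : Submodule (Localization.AtPrime P) (Localization.AtPrime P))) u' = 0 := by
    apply hreg.2.1
    show b • Submodule.Quotient.mk u' = b • (0 : QuotSMulTop a (Localization.AtPrime P))
    rw [smul_zero, ← Submodule.Quotient.mk_smul, smul_eq_mul, h1, Submodule.Quotient.mk_eq_zero]
    exact ⟨v', Submodule.mem_top, rfl⟩
  obtain ⟨w, -, hw⟩ := (Submodule.Quotient.mk_eq_zero _).mp h2
  have hw' : a * w = u' := hw
  have h3 : algebraMap R (Localization.AtPrime P) u = algebraMap R (Localization.AtPrime P) x * w := by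
    apply hreg.1
    show a * algebraMap R (Localization.AtPrime P) u = a * (algebraMap R (Localization.AtPrime P) x * w)
    rw [hu', ← hw']; ring
  have h4 : algebraMap R (Localization.AtPrime P) u ∈ (Ideal.span {x}).map (algebraMap R (Localization.AtPrime P)) := by
    rw [h3]
    exact Ideal.mul_mem_right _ _ (Ideal.mem_map_of_mem _ (Ideal.mem_span_singleton_self x))
  obtain ⟨t, ht, htu⟩ := (IsLocalization.algebraMap_mem_map_algebraMap_iff P.primeCompl (Localization.AtPrime P) _ _).mp h4
  exact ⟨t, ht, htu⟩

end depth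

section flat

variable {A C : Type u} [CommRing A] [IsLocalRing A] [CommRing C] [Algebra A C]

open TensorProduct in
theorem mem_map_maximalIdeal_of_mul_mem [Module.Flat A C] {K : Ideal A} {e : A} (he : e ∉ K)
    (hm : ∀ a ∈ maximalIdeal A, a * e ∈ K) {c : C}
    (h : algebraMap A C e * c ∈ K.map (algebraMap A C)) :
    c ∈ (maximalIdeal A).map (algebraMap A C) := by
  let g : A →ₗ[A] A ⧸ K := K.mkQ.comp (LinearMap.toSpanSingleton A A e)
  have hg : LinearMap.ker g = maximalIdeal A := by
    ext a
    simp only [g, LinearMap.mem_ker, LinearMap.comp_apply, LinearMap.toSpanSingleton_apply,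
      Submodule.mkQ_apply, Submodule.Quotient.mk_eq_zero, smul_eq_mul]
    refine ⟨fun ha => le_maximalIdeal (J := K.colon {e}) ?_ ?_, hm a⟩
    · intro htop
      have : (1 : A) ∈ K.colon {e} := htop ▸ trivial
      exact he (by simpa using Submodule.mem_colon_singleton.mp this)
    · exact Submodule.mem_colon_singleton.mpr (by simpa using ha)
  have hex : Function.Exact (Submodule.subtype (maximalIdeal A)) g :=
    LinearMap.exact_iff.mpr (by rw [Submodule.range_subtype]; exact hg)
  have hz : g.rTensor C ((1 : A) ⊗ₜ[A] c) = 0 := by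
    apply (quotTensorEquivQuotSMul C K).injective
    rw [map_zero, LinearMap.rTensor_tmul]
    show quotTensorEquivQuotSMul C K ((Ideal.Quotient.mk K ((1 : A) • e)) ⊗ₜ[A] c) = 0
    rw [quotTensorEquivQuotSMul_mk_tmul, one_smul, Submodule.Quotient.mk_eq_zero,
      Ideal.smul_top_eq_map, Algebra.smul_def]
    exact h
  obtain ⟨y, hy⟩ := (Module.Flat.rTensor_exact (M := C) hex _).mp hz
  have key : ∀ y : (maximalIdeal A) ⊗[A] C,
      TensorProduct.lid A C ((Submodule.subtype (maximalIdeal A)).rTensor C y) ∈
        (maximalIdeal A).map (algebraMap A C) := by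
    intro y
    induction y with
    | zero => simp
    | add a b ha hb => rw [map_add, map_add]; exact add_mem ha hb
    | tmul a b =>
      rw [LinearMap.rTensor_tmul, TensorProduct.lid_tmul, Algebra.smul_def]
      exact Ideal.mul_mem_right _ _ (Ideal.mem_map_of_mem _ a.2)
  have := key y
  rwa [hy, TensorProduct.lid_tmul, one_smul] at this

theorem exists_socle [IsArtinianRing A] {K : Ideal A} (hK : K ≠ ⊤) :
    ∃ e ∉ K, ∀ a ∈ maximalIdeal A, a * e ∈ K := by
  obtain ⟨n, hn⟩ := IsArtinianRing.isNilpotent_jacobson_bot (R := A)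
  rw [IsLocalRing.jacobson_eq_maximalIdeal ⊥ bot_ne_top] at hn
  classical
  have hex : ∃ j, maximalIdeal A ^ j ≤ K := ⟨n, by rw [hn]; exact bot_le⟩
  have hpos : Nat.find hex ≠ 0 := by
    intro h0
    have := Nat.find_spec hex
    rw [h0, pow_zero, Ideal.one_eq_top, top_le_iff] at this
    exact hK this
  obtain ⟨j, hj⟩ := Nat.exists_eq_succ_of_ne_zero hpos
  obtain ⟨e, he, heK⟩ := SetLike.not_le_iff_exists.mp (Nat.find_min hex (show j < Nat.find hex by omega))
  refine ⟨e, heK, fun a ha => ?_⟩
  have := Nat.find_spec hex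
  rw [hj, pow_succ'] at this
  exact this (Ideal.mul_mem_mul ha he)

/-- Nonzerodivisors of the closed fibre of a flat algebra over an Artinian local ring. -/
theorem mem_map_of_mul_mem [IsArtinianRing A] [Module.Flat A C] {x : C}
    (hx : ∀ a, x * a ∈ (maximalIdeal A).map (algebraMap A C) → a ∈ (maximalIdeal A).map (algebraMap A C))
    (K : Ideal A) : ∀ c, x * c ∈ K.map (algebraMap A C) → c ∈ K.map (algebraMap A C) := by
  haveI : IsNoetherianRing A := inferInstance
  induction K using IsNoetherian.induction with
  | _ K ih =>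
    intro c hc
    by_cases hK : K = ⊤
    · rw [hK, Ideal.map_top]; trivial
    obtain ⟨e, he, hme⟩ := exists_socle hK
    have hlt : K < K ⊔ Ideal.span {e} :=
      lt_of_le_of_ne le_sup_left fun h => he (h ▸ Ideal.mem_sup_right (Ideal.mem_span_singleton_self e))
    have hc' := ih _ hlt c (Ideal.map_mono le_sup_left hc)
    rw [Ideal.map_sup, Ideal.map_span, Set.image_singleton] at hc'
    obtain ⟨k, hk, b, hb, rfl⟩ := Submodule.mem_sup.mp hc'
    obtain ⟨r, rfl⟩ := Ideal.mem_span_singleton'.mp hb
    have h1 : algebraMap A C e * (x * r) ∈ Ideal.map (algebraMap A C) K := by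
      have e1 : algebraMap A C e * (x * r) = x * (k + r * algebraMap A C e) - x * k := by ring
      rw [e1]
      exact sub_mem hc (Ideal.mul_mem_left _ _ hk)
    have h2 := hx r (mem_map_maximalIdeal_of_mul_mem he hme h1)
    refine add_mem hk ?_
    have h3 : r * algebraMap A C e ∈ ((maximalIdeal A) * Ideal.span {e}).map (algebraMap A C) := by
      rw [Ideal.map_mul, Ideal.map_span, Set.image_singleton]
      exact Ideal.mul_mem_mul h2 (Ideal.mem_span_singleton_self _)
    refine Ideal.map_mono (Ideal.mul_le.mpr fun a ha q hq => ?_) h3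
    obtain ⟨s, rfl⟩ := Ideal.mem_span_singleton'.mp hq
    rw [mul_left_comm]
    exact Ideal.mul_mem_left K s (hme a ha)

end flat

section main

variable {A : Type u} [CommRing A] [IsArtinianRing A] [IsLocalRing A]
  {B : Type u} [CommRing B] [Algebra A B] [IsNoetherianRing B]


/-- No associated prime of `B/I` other than minimal primes of `B`. -/
def NoEmb (I : Ideal B) : Prop :=
  ∀ P ∈ associatedPrimes B (B ⧸ I), P ∈ minimalPrimes B

theorem NoEmb.mem_of_mul_mem {I : Ideal B} (h : NoEmb I) {x : B}
    (hx : ∀ q ∈ minimalPrimes B, x ∉ q) {c : B} (hc : x * c ∈ I) : c ∈ I := by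
  by_contra hcI
  have hmem : x ∈ ⋃ P ∈ associatedPrimes B (B ⧸ I), (P : Set B) := by
    rw [biUnion_associatedPrimes_eq_zero_divisors]
    exact ⟨Ideal.Quotient.mk I c, fun e => hcI (Ideal.Quotient.eq_zero_iff_mem.mp e),
      by rw [Algebra.smul_def, Ideal.Quotient.algebraMap_eq, ← map_mul, Ideal.Quotient.eq_zero_iff_mem]
         exact hc⟩
  simp only [Set.mem_iUnion] at hmem
  obtain ⟨P, hP, hxP⟩ := hmem
  exact hx P (h P hP) hxP

theorem NoEmb.mem_of_forall {I : Ideal B} (h : NoEmb I) {c : B}
    (hc : ∀ q ∈ minimalPrimes B, ∃ t ∉ q, t * c ∈ I) : c ∈ I := by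
  by_contra hcI
  obtain ⟨P, hP, hle⟩ := exists_le_isAssociatedPrime_of_isNoetherianRing B
    (Ideal.Quotient.mk I c) (fun e => hcI (Ideal.Quotient.eq_zero_iff_mem.mp e))
  obtain ⟨t, ht, htc⟩ := hc P (h P hP)
  refine ht (hle (Submodule.mem_colon_singleton.mpr ?_))
  rw [Submodule.mem_bot, Algebra.smul_def, Ideal.Quotient.algebraMap_eq, ← map_mul,
    Ideal.Quotient.eq_zero_iff_mem]
  exact htc

variable (hcodim : ∀ (q : Ideal B) [q.IsPrime], q.height ≤ 1 →
      Module.Flat A (Localization.AtPrime q) ∧ IsReduced (EGA4.FibLocRing A B q))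

theorem exists_step {K : Ideal A} (hKbot : K ≠ ⊥) :
    ∃ K' < K, ∃ e ∈ K, e ∉ K' ∧ (∀ a ∈ maximalIdeal A, a * e ∈ K') ∧ K' ⊔ Ideal.span {e} = K := by
  haveI : IsNoetherianRing A := inferInstance
  obtain ⟨K', hK'lt, hK'max⟩ := WellFounded.has_min (r := fun a b : Ideal A => b < a)
    (wellFounded_gt) {J : Ideal A | J < K} ⟨⊥, bot_lt_iff_ne_bot.mpr hKbot⟩
  replace hK'lt : K' < K := hK'lt
  obtain ⟨e, heK, heK'⟩ := SetLike.exists_of_lt hK'lt
  have hnone : ∀ y ∉ K', y ∈ K → K' ⊔ Ideal.span {y} = K := by
    intro y hy hyK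
    rcases (sup_le hK'lt.le ((Ideal.span_singleton_le_iff_mem K).mpr hyK) :
      K' ⊔ Ideal.span {y} ≤ K).lt_or_eq with h | h
    · refine absurd (lt_of_le_of_ne le_sup_left fun h' => hy ?_) (hK'max _ h)
      rw [h']
      exact Ideal.mem_sup_right (Ideal.mem_span_singleton_self y)
    · exact h
  refine ⟨K', hK'lt, e, heK, heK', fun a ha => ?_, hnone e heK' heK⟩
  by_contra hae
  obtain ⟨k, hk, r, hr, hkr⟩ :=
    Submodule.mem_sup.mp ((hnone _ hae (K.mul_mem_left _ heK)).ge heK)
  obtain ⟨s, rfl⟩ := Ideal.mem_span_singleton'.mp hr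
  have hu : IsUnit (1 - s * a) := by
    refine notMem_maximalIdeal.mp fun hh => (maximalIdeal.isMaximal A).ne_top ?_
    rw [Ideal.eq_top_iff_one]
    simpa using add_mem hh (Ideal.mul_mem_left _ s ha)
  obtain ⟨v, hv⟩ := hu.exists_left_inv
  refine heK' ?_
  have : e = v * k := by
    calc e = (v * (1 - s * a)) * e := by rw [hv, one_mul]
      _ = v * ((k + s * (a * e)) - s * (a * e)) := by rw [hkr]; ring
      _ = v * k := by ring
  rw [this]
  exact K'.mul_mem_left v hk

omit [IsNoetherianRing B] in
theorem comap_eq_maximalIdeal (q : Ideal B) [q.IsPrime] :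
    q.comap (algebraMap A B) = maximalIdeal A :=
  IsLocalRing.eq_maximalIdeal (IsArtinianRing.isMaximal_of_isPrime _)

omit [IsNoetherianRing B] in
theorem map_map_eq (K : Ideal A) (q : Ideal B) [q.IsPrime] :
    (K.map (algebraMap A B)).map (algebraMap B (Localization.AtPrime q)) =
      K.map (algebraMap A (Localization.AtPrime q)) := by
  rw [Ideal.map_map, ← IsScalarTower.algebraMap_eq]

include hcodim

omit [IsNoetherianRing B] in
theorem mem_maxMap_of_isNilpotent (q : Ideal B) [q.IsPrime] (hq : q.height ≤ 1)
    {z : Localization.AtPrime q} (hz : IsNilpotent z) :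
    z ∈ (maximalIdeal A).map (algebraMap A (Localization.AtPrime q)) := by
  have := (hcodim q hq).2
  change IsReduced (Localization.AtPrime q ⧸ (q.comap (algebraMap A B)).map (algebraMap A (Localization.AtPrime q))) at this
  rw [comap_eq_maximalIdeal] at this
  exact Ideal.Quotient.eq_zero_iff_mem.mp (hz.map (Ideal.Quotient.mk _)).eq_zero

omit [IsNoetherianRing B] in
theorem exists_mul_mem_maxMap (q : Ideal B) (hq : q ∈ minimalPrimes B) {b : B} (hb : b ∈ q) :
    ∃ t ∉ q, t * b ∈ (maximalIdeal A).map (algebraMap A B) := by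
  haveI : q.IsPrime := hq.1.1
  have hh : q.height ≤ 1 := by
    rw [(Ideal.height_eq_zero_iff (I := q)).mpr hq]; exact zero_le
  haveI := Ring.KrullDimLE.of_isLocalization q hq (Localization.AtPrime q)
  have hnil : IsNilpotent (algebraMap B (Localization.AtPrime q) b) := by
    rw [Ring.KrullDimLE.isNilpotent_iff_mem_maximalIdeal, ← Localization.AtPrime.map_eq_maximalIdeal]
    exact Ideal.mem_map_of_mem _ hb
  have := mem_maxMap_of_isNilpotent hcodim q hh hnil
  rw [← map_map_eq] at this
  obtain ⟨t, ht, htb⟩ := (IsLocalization.algebraMap_mem_map_algebraMap_iff q.primeCompl _ _ _).mp this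
  exact ⟨t, ht, htb⟩

theorem mul_mem_iff {K : Ideal A} {e : A} (he : e ∉ K) (hm : ∀ a ∈ maximalIdeal A, a * e ∈ K)
    (hK : NoEmb (K.map (algebraMap A B))) (b : B) :
    algebraMap A B e * b ∈ K.map (algebraMap A B) ↔ b ∈ nilradical B := by
  constructor
  · intro h
    rw [nilradical, ← Ideal.sInf_minimalPrimes, Submodule.mem_sInf]
    intro (q : Ideal B) hq
    haveI : q.IsPrime := hq.1.1
    have hh : q.height ≤ 1 := by
      rw [(Ideal.height_eq_zero_iff (I := q)).mpr hq]; exact zero_le
    haveI := (hcodim q hh).1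
    have h' := Ideal.mem_map_of_mem (algebraMap B (Localization.AtPrime q)) h
    rw [map_map_eq, map_mul, ← IsScalarTower.algebraMap_apply] at h'
    have h'' := mem_map_maximalIdeal_of_mul_mem he hm h'
    by_contra hbq
    have hu : IsUnit (algebraMap B (Localization.AtPrime q) b) :=
      IsLocalization.map_units _ (⟨b, hbq⟩ : q.primeCompl)
    have htop := Ideal.eq_top_of_isUnit_mem _ h'' hu
    rw [← map_map_eq] at htop
    have hle : (maximalIdeal A).map (algebraMap A B) ≤ q :=
      Ideal.map_le_iff_le_comap.mpr (comap_eq_maximalIdeal q).ge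
    have h3 := Ideal.map_mono (f := algebraMap B (Localization.AtPrime q)) hle
    rw [htop, Localization.AtPrime.map_eq_maximalIdeal, top_le_iff] at h3
    exact (maximalIdeal.isMaximal _).ne_top h3
  · intro hb
    refine hK.mem_of_forall fun q hq => ?_
    obtain ⟨t, ht, htb⟩ := exists_mul_mem_maxMap hcodim q hq ((haveI := hq.1.1; nilradical_le_prime q) hb)
    refine ⟨t, ht, ?_⟩
    rw [mul_left_comm]
    have h2 : algebraMap A B e * (t * b) ∈ (Ideal.span {e} * maximalIdeal A).map (algebraMap A B) := by
      rw [Ideal.map_mul, Ideal.map_span, Set.image_singleton]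
      exact Ideal.mul_mem_mul (Ideal.mem_span_singleton_self _) htb
    refine Ideal.map_mono (Ideal.mul_le.mpr fun r hr a ha => ?_) h2
    obtain ⟨s, rfl⟩ := Ideal.mem_span_singleton'.mp hr
    rw [mul_assoc, mul_comm e a]
    exact K.mul_mem_left s (hm a ha)

variable (hS1 : LocCoh.HasSk 1 B B) (hS2 : LocCoh.HasSk 2 (B ⧸ nilradical B) (B ⧸ nilradical B))
include hS1 hS2

theorem noEmb_map (K : Ideal A) : NoEmb (K.map (algebraMap A B)) := by
  haveI : IsNoetherianRing A := inferInstance
  induction K using IsWellFounded.induction (α := Ideal A) (· < ·) with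
  | _ K ih =>
    intro P hP
    obtain ⟨hPprime, c₀, hPc⟩ := isAssociatedPrime_iff.mp hP
    obtain ⟨c, rfl⟩ := Ideal.Quotient.mk_surjective c₀
    have hmemP : ∀ t : B, t ∈ P ↔ t * c ∈ K.map (algebraMap A B) := by
      intro t
      rw [hPc, Submodule.mem_colon_singleton, Submodule.mem_bot, Algebra.smul_def,
        Ideal.Quotient.algebraMap_eq, ← map_mul, Ideal.Quotient.eq_zero_iff_mem]
    by_contra hPmin
    have h0 : P.height ≠ 0 := fun e => hPmin (Ideal.height_eq_zero_iff.mp e)
    have h1 : (1 : ℕ∞) ≤ P.height := ENat.one_le_iff_ne_zero.mpr h0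
    by_cases hKbot : K = ⊥
    · subst hKbot
      obtain ⟨t, ht, htc⟩ := exists_notMem_mul_eq_zero hS1 P h1 c fun p hp => by
        simpa using (hmemP p).mp hp
      exact ht ((hmemP t).mpr (by simp [htc]))
    obtain ⟨K', hK'lt, e, heK, heK', hme, hsup⟩ := exists_step hKbot
    have ihK' := ih K' hK'lt
    have hKB : K.map (algebraMap A B) =
        K'.map (algebraMap A B) ⊔ Ideal.span {algebraMap A B e} := by
      rw [← hsup, Ideal.map_sup, Ideal.map_span, Set.image_singleton]
    -- an element of P outside all minimal primes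
    obtain ⟨x, hxP, hxmin⟩ : ∃ x ∈ P, ∀ q ∈ minimalPrimes B, x ∉ q := by
      by_contra! hcon
      have hfin : (minimalPrimes B).Finite := minimalPrimes.finite_of_isNoetherianRing B
      obtain ⟨q, hq, hle⟩ := (Ideal.subset_union_prime_finite hfin (f := id) ⊥ ⊥
        (fun q hq _ _ => hq.1.1)).mp fun p hp => by
          obtain ⟨q, hq, hpq⟩ := hcon p hp
          exact Set.mem_biUnion hq hpq
      exact hPmin (le_antisymm hle (hq.2 ⟨hPprime, bot_le⟩ hle) ▸ hq)
    rcases eq_or_ne P.height 1 with hh | hh
    · -- height one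
      haveI := (hcodim P hh.le).1
      have hnzd : ∀ a, algebraMap B (Localization.AtPrime P) x * a ∈
          (maximalIdeal A).map (algebraMap A (Localization.AtPrime P)) →
          a ∈ (maximalIdeal A).map (algebraMap A (Localization.AtPrime P)) := by
        intro a ha
        have hnonmax : ∀ Q : Ideal (Localization.AtPrime P), Q.IsPrime →
            algebraMap B (Localization.AtPrime P) x ∈ Q → Q = maximalIdeal _ := by
          intro Q hQ hxQ
          by_contra hQm
          have hdis := (IsLocalization.isPrime_iff_isPrime_disjoint P.primeCompl _ Q).mp hQ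
          haveI := hdis.1
          have hle : Q.under B ≤ P := fun z hz => by
            by_contra hzP
            exact Set.disjoint_left.mp hdis.2 hzP hz
          have hne : Q.under B ≠ P := by
            intro hEq
            apply hQm
            rw [← IsLocalization.map_comap P.primeCompl _ Q, hEq,
              Localization.AtPrime.map_eq_maximalIdeal]
          have hlt := Ideal.height_strict_mono_of_isPrime (lt_of_le_of_ne hle hne)
          rw [hh, Order.lt_one_iff] at hlt
          exact hxmin _ (Ideal.height_eq_zero_iff.mp hlt) hxQ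
        have hmQ : ∀ Q : Ideal (Localization.AtPrime P), Q.IsPrime →
            (maximalIdeal A).map (algebraMap A (Localization.AtPrime P)) ≤ Q := fun Q hQ => by
          haveI := hQ
          exact Ideal.map_le_iff_le_comap.mpr
            (IsLocalRing.eq_maximalIdeal (IsArtinianRing.isMaximal_of_isPrime _)).ge
        refine mem_maxMap_of_isNilpotent hcodim P hh.le ?_
        rw [← mem_nilradical, nilradical_eq_sInf, Submodule.mem_sInf]
        intro Q hQ
        rcases hQ.mem_or_mem (hmQ Q hQ ha) with hxQ | haQ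
        · rw [hnonmax Q hQ hxQ]
          -- some minimal prime lies below P
          obtain ⟨q, hq, hqP⟩ := Ideal.exists_minimalPrimes_le (bot_le : (⊥ : Ideal B) ≤ P)
          haveI : q.IsPrime := hq.1.1
          have hd : Disjoint (P.primeCompl : Set B) q := Set.disjoint_left.mpr fun z hz hzq => hz (hqP hzq)
          have hQ' := IsLocalization.isPrime_of_isPrime_disjoint P.primeCompl (Localization.AtPrime P) q hq.1.1 hd
          rcases hQ'.mem_or_mem (hmQ _ hQ' ha) with h' | h'
          · exfalso
            have h'' : x ∈ Ideal.under B (q.map (algebraMap B (Localization.AtPrime P))) := h'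
            rw [IsLocalization.under_map_of_isPrime_disjoint P.primeCompl _ hq.1.1 hd] at h''
            exact hxmin q hq h''
          · exact le_maximalIdeal hQ'.ne_top h'
        · exact haQ
      have hxc : algebraMap B (Localization.AtPrime P) x * algebraMap B _ c ∈
          K.map (algebraMap A (Localization.AtPrime P)) := by
        rw [← map_mul, ← map_map_eq]
        exact Ideal.mem_map_of_mem _ ((hmemP x).mp hxP)
      have := mem_map_of_mul_mem hnzd K _ hxc
      rw [← map_map_eq] at this
      obtain ⟨t, ht, htc⟩ := (IsLocalization.algebraMap_mem_map_algebraMap_iff P.primeCompl _ _ _).mp this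
      exact ht ((hmemP t).mpr htc)
    · -- height at least two
      have h2 : (2 : ℕ∞) ≤ P.height := by
        have : (1 : ℕ∞) < P.height := lt_of_le_of_ne h1 (Ne.symm hh)
        simpa [one_add_one_eq_two] using Order.add_one_le_of_lt this
      let N := nilradical B
      have hNP : N ≤ P := nilradical_le_prime P
      let Pb := P.map (Ideal.Quotient.mk N)
      haveI : Pb.IsPrime := Ideal.map_isPrime_of_surjective Ideal.Quotient.mk_surjective (by rwa [Ideal.mk_ker])
      have hcomap : Pb.comap (Ideal.Quotient.mk N) = P := by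
        rw [Ideal.comap_map_of_surjective _ Ideal.Quotient.mk_surjective, ← RingHom.ker_eq_comap_bot,
          Ideal.mk_ker]
        exact sup_eq_left.mpr hNP
      have hPb : P.height ≤ Pb.height := by
        let F : PrimeSpectrum B → PrimeSpectrum (B ⧸ N) := fun Q =>
          ⟨Q.asIdeal.map (Ideal.Quotient.mk N), Ideal.map_isPrime_of_surjective
            Ideal.Quotient.mk_surjective (by rw [Ideal.mk_ker]; exact nilradical_le_prime _)⟩
        have hF : StrictMono F := by
          intro Q Q' hlt
          refine lt_of_le_of_ne (Ideal.map_mono hlt.le) fun heq => hlt.ne (PrimeSpectrum.ext ?_)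
          have := congrArg (fun I : PrimeSpectrum (B ⧸ N) => I.asIdeal.comap (Ideal.Quotient.mk N)) heq
          have hQN : ∀ J : PrimeSpectrum B, J.asIdeal ⊔ N = J.asIdeal := fun J =>
            le_antisymm (sup_le le_rfl (nilradical_le_prime J.asIdeal)) le_sup_left
          simpa [F, Ideal.comap_map_of_surjective _ Ideal.Quotient.mk_surjective,
            ← RingHom.ker_eq_comap_bot, hQN] using this
        have := Order.height_le_height_apply_of_strictMono F hF ⟨P, hPprime⟩
        rwa [← PrimeSpectrum.height_eq_orderHeight, ← PrimeSpectrum.height_eq_orderHeight] at this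
      have hxreg : IsSMulRegular (B ⧸ N) (Ideal.Quotient.mk N x) := by
        intro a b hab
        obtain ⟨a, rfl⟩ := Ideal.Quotient.mk_surjective a
        obtain ⟨b, rfl⟩ := Ideal.Quotient.mk_surjective b
        simp only [smul_eq_mul, ← map_mul, Ideal.Quotient.eq] at hab ⊢
        rw [← mul_sub] at hab
        show a - b ∈ nilradical B
        rw [nilradical, ← Ideal.sInf_minimalPrimes, Submodule.mem_sInf]
        exact fun q hq => (hq.1.1.mem_or_mem ((haveI := hq.1.1; nilradical_le_prime q) hab)).resolve_left (hxmin q hq)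
      have hrep : ∀ y ∈ P, ∃ k ∈ K'.map (algebraMap A B), ∃ v, y * c = k + v * algebraMap A B e := by
        intro y hy
        have := (hmemP y).mp hy
        rw [hKB] at this
        obtain ⟨k, hk, z, hz, hkz⟩ := Submodule.mem_sup.mp this
        obtain ⟨v, rfl⟩ := Ideal.mem_span_singleton'.mp hz
        exact ⟨k, hk, v, hkz.symm⟩
      obtain ⟨k, hk, u, hxu⟩ := hrep x hxP
      have hu : ∀ p ∈ Pb, p * Ideal.Quotient.mk N u ∈ Ideal.span {Ideal.Quotient.mk N x} := by
        intro p hp
        obtain ⟨y, hy, rfl⟩ := (Ideal.mem_map_iff_of_surjective _ Ideal.Quotient.mk_surjective).mp hp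
        obtain ⟨k', hk', v, hyv⟩ := hrep y hy
        have hN : y * u - x * v ∈ N := by
          refine (mul_mem_iff hcodim heK' hme ihK' _).mp ?_
          have : algebraMap A B e * (y * u - x * v) = x * k' - y * k := by
            linear_combination x * hyv - y * hxu
          rw [this]
          exact sub_mem (Ideal.mul_mem_left _ _ hk') (Ideal.mul_mem_left _ _ hk)
        rw [Ideal.mem_span_singleton]
        exact ⟨Ideal.Quotient.mk N v, by rw [← map_mul, ← map_mul, Ideal.Quotient.eq]; exact hN⟩
      obtain ⟨t, ht, htu⟩ := exists_notMem_mul_mem_span hS2 Pb (h2.trans hPb) hxreg _ hu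
      obtain ⟨t, rfl⟩ := Ideal.Quotient.mk_surjective t
      obtain ⟨w, hw⟩ := Ideal.mem_span_singleton.mp htu
      obtain ⟨w, rfl⟩ := Ideal.Quotient.mk_surjective w
      rw [← map_mul, ← map_mul, Ideal.Quotient.eq] at hw
      apply ht
      refine Ideal.mem_map_of_mem _ ((hmemP t).mpr ?_)
      have hn := (mul_mem_iff hcodim heK' hme ihK' _).mpr hw
      have h3 : x * (t * c - w * algebraMap A B e) ∈ K'.map (algebraMap A B) := by
        have : x * (t * c - w * algebraMap A B e) = algebraMap A B e * (t * u - x * w) + t * k := by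
          linear_combination t * hxu
        rw [this]
        exact add_mem hn (Ideal.mul_mem_left _ _ hk)
      have h4 := ihK'.mem_of_mul_mem hxmin h3
      rw [hKB]
      refine Submodule.mem_sup.mpr ⟨_, h4, w * algebraMap A B e,
        Ideal.mul_mem_left _ _ (Ideal.mem_span_singleton_self _), sub_add_cancel _ _⟩

theorem nilradical_eq : nilradical B = (maximalIdeal A).map (algebraMap A B) := by
  refine le_antisymm (fun b hb => ?_) ?_
  · exact (noEmb_map hcodim hS1 hS2 _).mem_of_forall fun q hq =>
      exists_mul_mem_maxMap hcodim q hq ((haveI := hq.1.1; nilradical_le_prime q) hb)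
  · rw [Ideal.map_le_iff_le_comap]
    intro a ha
    obtain ⟨n, hn⟩ := IsArtinianRing.isNilpotent_jacobson_bot (R := A)
    rw [IsLocalRing.jacobson_eq_maximalIdeal ⊥ bot_ne_top] at hn
    have : IsNilpotent a := ⟨n, by simpa [hn] using Ideal.pow_mem_pow ha n⟩
    exact this.map (algebraMap A B)

open TensorProduct in
theorem flat : Module.Flat A B := by
  haveI : IsNoetherianRing A := inferInstance
  rw [Module.Flat.iff_lift_lsmul_comp_subtype_injective]
  intro K _
  induction K using IsWellFounded.induction (α := Ideal A) (· < ·) with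
  | _ K ih =>
    by_cases hKbot : K = ⊥
    · subst hKbot
      intro a b _
      exact Subsingleton.elim a b
    obtain ⟨K', hK'lt, e, heK, heK', hme, hsup⟩ := exists_step hKbot
    set φ := TensorProduct.lift ((LinearMap.lsmul A B).comp K.subtype)
    set ι : K' →ₗ[A] K := Submodule.inclusion hK'lt.le
    have hrep : ∀ z : K ⊗[A] B, ∃ z' : K' ⊗[A] B, ∃ b : B,
        z = ι.rTensor B z' + (⟨e, heK⟩ : K) ⊗ₜ[A] b := by
      intro z
      induction z with
      | zero => exact ⟨0, 0, by simp⟩
      | add z w hz hw =>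
        obtain ⟨z', b, rfl⟩ := hz
        obtain ⟨w', d, rfl⟩ := hw
        exact ⟨z' + w', b + d, by rw [map_add, tmul_add]; abel⟩
      | tmul a b =>
        obtain ⟨k, hk, r, hr, hkr⟩ := Submodule.mem_sup.mp (hsup.ge a.2)
        obtain ⟨s, rfl⟩ := Ideal.mem_span_singleton'.mp hr
        refine ⟨(⟨k, hk⟩ : K') ⊗ₜ[A] b, s • b, ?_⟩
        rw [LinearMap.rTensor_tmul, tmul_smul, smul_tmul', ← add_tmul]
        congr 1
        exact Subtype.ext hkr.symm
    have hφι : ∀ z', φ (ι.rTensor B z') =
        TensorProduct.lift ((LinearMap.lsmul A B).comp K'.subtype) z' := by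
      intro z'
      induction z' with
      | zero => simp
      | add a b ha hb => rw [map_add, map_add, ha, hb, map_add]
      | tmul a b => simp [φ, ι]
    have hrange : ∀ z', TensorProduct.lift ((LinearMap.lsmul A B).comp K'.subtype) z' ∈
        K'.map (algebraMap A B) := by
      intro z'
      induction z' with
      | zero => simp
      | add a b ha hb => rw [map_add]; exact add_mem ha hb
      | tmul a b =>
        simp only [TensorProduct.lift.tmul, LinearMap.comp_apply, Submodule.subtype_apply,
          LinearMap.lsmul_apply, Algebra.smul_def]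
        exact Ideal.mul_mem_right _ _ (Ideal.mem_map_of_mem _ a.2)
    rw [← LinearMap.ker_eq_bot, eq_bot_iff]
    intro z hz
    rw [Submodule.mem_bot]
    obtain ⟨z', b, rfl⟩ := hrep z
    rw [LinearMap.mem_ker, map_add, hφι] at hz
    have heb : algebraMap A B e * b ∈ K'.map (algebraMap A B) := by
      have h2 : φ ((⟨e, heK⟩ : K) ⊗ₜ[A] b) = algebraMap A B e * b := by simp [φ, Algebra.smul_def]
      rw [h2] at hz
      rw [eq_neg_of_add_eq_zero_right hz]
      exact neg_mem (hrange z')
    have hbN := (mul_mem_iff hcodim heK' hme (noEmb_map hcodim hS1 hS2 K') b).mp heb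
    rw [nilradical_eq hcodim hS1 hS2] at hbN
    have hb' : ∃ w : K' ⊗[A] B, (⟨e, heK⟩ : K) ⊗ₜ[A] b = ι.rTensor B w := by
      have hbs : b ∈ (maximalIdeal A • (⊤ : Submodule A B) : Submodule A B) := by
        rw [Ideal.smul_top_eq_map]; exact hbN
      refine Submodule.smul_induction_on hbs (fun a ha d _ => ?_) (fun a d ha hd => ?_)
      · refine ⟨(⟨a * e, hme a ha⟩ : K') ⊗ₜ[A] d, ?_⟩
        rw [LinearMap.rTensor_tmul, tmul_smul, smul_tmul']
        rfl
      · obtain ⟨w, hw⟩ := ha
        obtain ⟨v, hv⟩ := hd
        exact ⟨w + v, by rw [tmul_add, hw, hv, map_add]⟩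
    obtain ⟨w, hw⟩ := hb'
    rw [hw, ← map_add]
    rw [hw, hφι, ← map_add] at hz
    rw [ih K' hK'lt (IsNoetherian.noetherian K') (hz.trans (map_zero _).symm), map_zero]

end main

end Groth.Agent.FamCycArt
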